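import Groth.Prelude.Def_Dual3
import Mathlib

/-!
# Formal compatibilities of base change maps with units and traces
-/

set_option autoImplicit false
set_option backward.isDefEq.respectTransparency false

universe u v₁ v₂ v₃ v₄ u₁ u₂ u₃ u₄

open CategoryTheory

namespace Groth.Agent.H25Dual3.Compat

variable {X : Type u₁} [Category.{v₁} X] {X' : Type u₂} [Category.{v₂} X']
  {Y : Type u₃} [Category.{v₃} Y] {Y' : Type u₄} [Category.{v₄} Y']
  {F : X ⥤ Y} {F' : X' ⥤ Y'} {G : Y' ⥤ Y} {G' : X' ⥤ X} {a : Y ⥤ X} {a' : Y' ⥤ X'}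
  {L : Y ⥤ Y'} {L' : X ⥤ X'}
  (adj : F ⊣ a) (adj' : F' ⊣ a') (adjg : L ⊣ G) (adjg' : L' ⊣ G') (e : G' ⋙ F ≅ F' ⋙ G)

/-- The comparison `ξ`. -/
noncomputable abbrev ξ (M : Y') : G'.obj (a'.obj M) ⟶ a.obj (G.obj M) :=
  (adj.homEquiv _ _) (e.hom.app (a'.obj M) ≫ G.map (adj'.counit.app M))

/-- The base change map. -/
noncomputable abbrev bc (K : Y) [IsIso (ξ adj adj' e (L.obj K))] : L'.obj (a.obj K) ⟶ a'.obj (L.obj K) :=
  L'.map (a.map (adjg.unit.app K)) ≫ L'.map (inv (ξ adj adj' e (L.obj K))) ≫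
    adjg'.counit.app (a'.obj (L.obj K))

/-- The push forward base change map. -/
noncomputable abbrev bp (M : X) : L.obj (F.obj M) ⟶ F'.obj (L'.obj M) :=
  (adjg.homEquiv _ _).symm (F.map (adjg'.unit.app M) ≫ e.hom.app (L'.obj M))

lemma homEquiv_bc (K : Y) [IsIso (ξ adj adj' e (L.obj K))] :
    adjg'.homEquiv _ _ (bc adj adj' adjg adjg' e K) = a.map (adjg.unit.app K) ≫ inv (ξ adj adj' e (L.obj K)) := by
  rw [← Equiv.eq_symm_apply, Adjunction.homEquiv_counit, Functor.map_comp, Category.assoc]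

theorem trace (K : Y) [IsIso (ξ adj adj' e (L.obj K))] :
    bp adjg adjg' e (a.obj K) ≫ F'.map (bc adj adj' adjg adjg' e K) ≫ adj'.counit.app (L.obj K) =
      L.map (adj.counit.app K) := by
  apply (adjg.homEquiv _ _).injective
  rw [Adjunction.homEquiv_naturality_right, Equiv.apply_symm_apply, Functor.map_comp, Category.assoc]
  have hn := e.hom.naturality (bc adj adj' adjg adjg' e K)
  simp only [Functor.comp_map] at hn
  rw [← reassoc_of% hn, ← Functor.map_comp_assoc, ← Adjunction.homEquiv_unit, homEquiv_bc,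
    Functor.map_comp_assoc]
  have hx : F.map (ξ adj adj' e (L.obj K)) ≫ adj.counit.app _ =
      e.hom.app (a'.obj (L.obj K)) ≫ G.map (adj'.counit.app (L.obj K)) := by
    exact (adj.homEquiv_counit _ _ _).symm.trans (Equiv.symm_apply_apply _ _)
  simp only [Functor.comp_obj, Functor.id_obj] at hx ⊢
  rw [← hx, ← Functor.map_comp_assoc F (inv _), IsIso.inv_hom_id, CategoryTheory.Functor.map_id,
    Category.id_comp]
  rw [Adjunction.homEquiv_unit]
  have h1 := adj.counit.naturality (adjg.unit.app K)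
  have h2 := adjg.unit.naturality (adj.counit.app K)
  simp only [Functor.comp_map, Functor.id_map] at h1 h2
  exact h1.trans h2

theorem unit (M : X) [IsIso (ξ adj adj' e (L.obj (F.obj M)))]
    [IsIso (ξ adj adj' e (F'.obj (L'.obj M)))] :
    adj'.unit.app (L'.obj M) = L'.map (adj.unit.app M) ≫ bc adj adj' adjg adjg' e (F.obj M) ≫
      a'.map (bp adjg adjg' e M) := by
  apply (adjg'.homEquiv M (a'.obj (F'.obj (L'.obj M)))).injective
  simp only [Functor.comp_obj, Functor.id_obj]
  rw [Adjunction.homEquiv_naturality_left, Adjunction.homEquiv_naturality_right, homEquiv_bc,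
    Adjunction.homEquiv_unit, ← cancel_mono (ξ adj adj' e (F'.obj (L'.obj M)))]
  have hnat : G'.map (a'.map (bp adjg adjg' e M)) ≫ ξ adj adj' e (F'.obj (L'.obj M)) =
      ξ adj adj' e (L.obj (F.obj M)) ≫ a.map (G.map (bp adjg adjg' e M)) := by
    rw [ξ, ξ, ← Adjunction.homEquiv_naturality_left, ← Adjunction.homEquiv_naturality_right]
    congr 1
    have hn := e.hom.naturality (a'.map (bp adjg adjg' e M))
    simp only [Functor.comp_map] at hn
    rw [reassoc_of% hn, ← Functor.map_comp, Adjunction.counit_naturality, Category.assoc,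
      ← Functor.map_comp]
  simp only [Category.assoc, hnat]
  rw [IsIso.inv_hom_id_assoc, ← Functor.map_comp, ← Adjunction.homEquiv_unit,
    show adjg.unit.app (F.obj M) ≫ G.map (bp adjg adjg' e M) = F.map (adjg'.unit.app M) ≫ e.hom.app (L'.obj M)
      from (adjg.homEquiv_unit _ _ _).symm.trans (Equiv.apply_symm_apply _ _)]
  rw [ξ, ← Adjunction.homEquiv_naturality_left, ← Adjunction.homEquiv_naturality_left,
    Adjunction.homEquiv_unit]
  congr 2
  have hn := e.hom.naturality (adj'.unit.app (L'.obj M))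
  simp only [Functor.comp_map] at hn
  erw [reassoc_of% hn]
  rw [← Functor.map_comp G, Adjunction.left_triangle_components, CategoryTheory.Functor.map_id,
    Category.comp_id]

end Groth.Agent.H25Dual3.Compat
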